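import Mathlib

/-! Logarithmic derivatives on `R[X, 1/Θ]^d` with non-resonant residues. -/

set_option autoImplicit false
universe u
open Polynomial

namespace Groth.Agent.LogDerLib

variable {R : Type u} [CommRing R] {d r : ℕ} (θ : Fin r → R) (Θ : R[X])

/-- Componentwise evaluation. -/
def ev (a : R) (v : Fin d → R[X]) : Fin d → R := fun j => (v j).eval a

theorem derivative_prod_eval (i : Fin r) :
    (derivative (∏ k, (X - C (θ k)))).eval (θ i) = ∏ k ∈ Finset.univ.erase i, (θ i - θ k) := by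
  classical
  rw [derivative_prod_finset, eval_finsetSum, Finset.sum_eq_single i]
  · simp [eval_prod]
  · intro b _ hb
    rw [eval_mul, eval_prod, Finset.prod_eq_zero (Finset.mem_erase.2 ⟨hb.symm, Finset.mem_univ i⟩)
      (by simp), zero_mul]
  · simp

variable (hθ : ∀ i k, i ≠ k → IsUnit (θ i - θ k)) (hΘ : Θ = ∏ i, (X - C (θ i)))

include hθ in
theorem isUnit_c (i : Fin r) : IsUnit (∏ k ∈ Finset.univ.erase i, (θ i - θ k)) :=
  IsUnit.prod_iff.2 fun _ hk => hθ _ _ (Finset.ne_of_mem_erase hk).symm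

include hθ hΘ in
theorem exists_eq_smul_of_ev_eq_zero (v : Fin d → R[X]) (h : ∀ i, ev (θ i) v = 0) :
    ∃ v' : Fin d → R[X], v = Θ • v' := by
  have h' : ∀ j, Θ ∣ v j := fun j => by
    rw [hΘ]
    refine Fintype.prod_dvd_of_coprime (fun a b hab => ?_) fun i => ?_
    · exact isCoprime_X_sub_C_of_isUnit_sub (hθ a b hab)
    · exact dvd_iff_isRoot.2 (congrFun (h i) j)
  choose v' hv' using h'
  exact ⟨v', funext hv'⟩

include hθ in
theorem exists_ev_eq (a : Fin r → Fin d → R) : ∃ u : Fin d → R[X], ∀ i, ev (θ i) u = a i := by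
  classical
  choose c hc using fun i => (isUnit_c θ hθ i).exists_left_inv
  refine ⟨fun j => ∑ i, C (a i j * c i) * ∏ k ∈ Finset.univ.erase i, (X - C (θ k)), fun l => ?_⟩
  funext j
  simp only [ev, eval_finsetSum, eval_mul, eval_C, eval_prod, eval_sub, eval_X]
  rw [Finset.sum_eq_single l]
  · rw [mul_assoc, hc, mul_one]
  · intro b _ hb
    rw [Finset.prod_eq_zero (Finset.mem_erase.2 ⟨hb.symm, Finset.mem_univ l⟩) (sub_self _), mul_zero]
  · simp

variable (D₀ : (Fin d → R[X]) →+ (Fin d → R[X]))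
  (hD₀ : ∀ (p : R[X]) (v : Fin d → R[X]), D₀ (p • v) = (Θ * derivative p) • v + p • D₀ v)
  (Res : Fin r → ((Fin d → R) →ₗ[R] (Fin d → R)))
  (hRes : ∀ (i : Fin r) (m : Fin d → R) (j : Fin d), (D₀ (fun j => C (m j)) j).eval (θ i) =
    (∏ k ∈ Finset.univ.erase i, (θ i - θ k)) * Res i m j)

include hΘ hD₀ hRes in
theorem ev_D₀ (v : Fin d → R[X]) (i : Fin r) :
    ev (θ i) (D₀ v) = (∏ k ∈ Finset.univ.erase i, (θ i - θ k)) • Res i (ev (θ i) v) := by
  have h : ∀ j, (X - C (θ i)) ∣ v j - C (ev (θ i) v j) := fun j =>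
    X_sub_C_dvd_sub_C_eval
  choose u hu using h
  have hv : v = (fun j => C (ev (θ i) v j)) + (X - C (θ i)) • u := by
    funext j
    simp [← hu j]
  have hzero : Θ.eval (θ i) = 0 := by
    rw [hΘ, eval_prod]
    exact Finset.prod_eq_zero (Finset.mem_univ i) (by simp)
  funext j
  conv_lhs => rw [hv]
  show ((D₀ _) j).eval (θ i) = _
  rw [map_add, hD₀]
  simp [hzero, hRes]

variable (hinv : ∀ (i : Fin r) (m : ℕ), 0 < m → Function.Bijective fun x => Res i x - (m : R) • x)
  (D : (Fin d → Localization.Away Θ) →+ (Fin d → Localization.Away Θ))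
  (hD : ∀ (p : R[X]) (w : Fin d → Localization.Away Θ), D (p • w) = (Θ * derivative p) • w + p • D w)
  (hDD₀ : ∀ v : Fin d → R[X], D (fun j => algebraMap R[X] (Localization.Away Θ) (v j)) =
    fun j => algebraMap R[X] (Localization.Away Θ) (D₀ v j))

/-- The inclusion of polynomial vectors. -/
noncomputable def incl : (Fin d → R[X]) →ₗ[R[X]] (Fin d → Localization.Away Θ) :=
  LinearMap.compLeft (Algebra.linearMap R[X] (Localization.Away Θ)) (Fin d)

theorem smul_left_cancel {n : ℕ} {a b : Fin d → Localization.Away Θ}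
    (h : Θ ^ n • a = Θ ^ n • b) : a = b := by
  funext j
  have := congrFun h j
  simp only [Pi.smul_apply, Algebra.smul_def, map_pow] at this
  exact ((IsLocalization.Away.algebraMap_isUnit (S := Localization.Away Θ) Θ).pow n).mul_left_cancel this

theorem exists_pow_smul_eq_incl (f : Fin d → Localization.Away Θ) :
    ∃ (m : ℕ) (v : Fin d → R[X]), Θ ^ m • f = incl Θ v := by
  obtain ⟨⟨_, m, rfl⟩, hb⟩ := IsLocalization.exist_integer_multiples_of_finite (Submonoid.powers Θ) f
  choose v hv using hb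
  exact ⟨m, v, funext fun j => (hv j).symm⟩

theorem exists_pow_smul (m : ℕ) (u : Fin d → R[X]) :
    ∃ z : Fin d → Localization.Away Θ, Θ ^ m • z = incl Θ u := by
  refine ⟨fun j => IsLocalization.mk' _ (u j) (⟨Θ ^ m, m, rfl⟩ : Submonoid.powers Θ), funext fun j => ?_⟩
  rw [Pi.smul_apply, Algebra.smul_def, mul_comm]
  exact IsLocalization.mk'_spec _ (u j) (⟨Θ ^ m, m, rfl⟩ : Submonoid.powers Θ)

include hD hDD₀ in
theorem pow_smul_D {m : ℕ} {z : Fin d → Localization.Away Θ} {u : Fin d → R[X]}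
    (h : Θ ^ (m + 1) • z = incl Θ u) :
    Θ ^ (m + 1) • D z = incl Θ (D₀ u - (((m + 1 : ℕ) : R[X]) * derivative Θ) • u) := by
  have h1 : D (Θ ^ (m + 1) • z) = incl Θ (D₀ u) := by rw [h]; exact hDD₀ u
  rw [hD, show Θ * derivative (Θ ^ (m + 1)) = (((m + 1 : ℕ) : R[X]) * derivative Θ) * Θ ^ (m + 1) by
    rw [derivative_pow_succ]; push_cast; simp; ring, mul_smul, h] at h1
  rw [map_sub, map_smul]
  exact eq_sub_of_add_eq' h1

include hθ hΘ in
theorem exists_pow_smul_of_ev_eq_zero {m : ℕ} {z : Fin d → Localization.Away Θ} {v : Fin d → R[X]}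
    (h : Θ ^ (m + 1) • z = incl Θ v) (h0 : ∀ i, ev (θ i) v = 0) :
    ∃ v', Θ ^ m • z = incl Θ v' := by
  obtain ⟨v', rfl⟩ := exists_eq_smul_of_ev_eq_zero θ Θ hθ hΘ v h0
  refine ⟨v', smul_left_cancel Θ (n := 1) ?_⟩
  rw [pow_one, smul_smul, ← pow_succ', h, map_smul]

include hθ hΘ hD₀ hRes hinv hD hDD₀ in
/-- `D(f)` polynomial implies `f` polynomial. -/
theorem exists_eq_incl_of_D_eq [IsDomain R] (f : Fin d → Localization.Away Θ)
    (u : Fin d → R[X]) (hf : D f = incl Θ u) : ∃ v, f = incl Θ v := by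
  obtain ⟨m, v, hv⟩ := exists_pow_smul_eq_incl Θ f
  induction m generalizing v with
  | zero => exact ⟨v, by simpa using hv⟩
  | succ m ih =>
    have h1 := pow_smul_D Θ D₀ D hD hDD₀ hv
    rw [hf, ← map_smul] at h1
    have hne : Θ ≠ 0 := by
      rw [hΘ]; exact (monic_prod_of_monic _ _ fun i _ => monic_X_sub_C (θ i)).ne_zero
    have hinj : Function.Injective (incl (d := d) Θ) := fun a b h => funext fun j =>
      IsLocalization.injective (Localization.Away Θ)
        (powers_le_nonZeroDivisors_of_noZeroDivisors hne) (congrFun h j)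
    have h2 := hinj h1
    refine (exists_pow_smul_of_ev_eq_zero θ Θ hθ hΘ hv fun i => ?_).elim fun v' hv' => ih v' hv'
    apply (hinv i (m + 1) m.succ_pos).1
    simp only [map_zero, smul_zero, sub_zero]
    apply (isUnit_c θ hθ i).smul_left_cancel.1
    rw [smul_sub, ← ev_D₀ θ Θ hΘ D₀ hD₀ Res hRes v i, smul_zero, sub_eq_zero]
    funext j
    have h3 := congrArg (fun p => (p j).eval (θ i)) h2
    have hzero : Θ.eval (θ i) = 0 := by
      rw [hΘ, eval_prod]
      exact Finset.prod_eq_zero (Finset.mem_univ i) (by simp)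
    simp only [Pi.sub_apply, Pi.smul_apply, smul_eq_mul, eval_sub, eval_mul, eval_pow, hzero,
      zero_pow m.succ_ne_zero, zero_mul] at h3
    have h4 : (derivative Θ).eval (θ i) = ∏ k ∈ Finset.univ.erase i, (θ i - θ k) := by
      rw [hΘ]; exact derivative_prod_eval θ i
    rw [h4, eval_natCast] at h3
    show ((D₀ v) j).eval (θ i) = _
    simp only [ev, Pi.smul_apply, smul_eq_mul]
    linear_combination -h3

include hθ hΘ hD₀ hRes hinv hD hDD₀ in
/-- Everything is a derivative plus a polynomial vector. -/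
theorem exists_eq_D_add (w : Fin d → Localization.Away Θ) : ∃ w' v, w = D w' + incl Θ v := by
  obtain ⟨m, v, hv⟩ := exists_pow_smul_eq_incl Θ w
  induction m generalizing v w with
  | zero => exact ⟨0, v, by simpa using hv⟩
  | succ m ih =>
    choose c hc using fun i => (isUnit_c θ hθ i).exists_left_inv
    choose a ha using fun i => (hinv i (m + 1) m.succ_pos).2 (c i • ev (θ i) v)
    obtain ⟨u, hu⟩ := exists_ev_eq θ hθ a
    obtain ⟨z, hz⟩ := exists_pow_smul Θ (m + 1) u
    have h1 : Θ ^ (m + 1) • (w - D z) =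
        incl Θ (v - (D₀ u - (((m + 1 : ℕ) : R[X]) * derivative Θ) • u)) := by
      rw [smul_sub, hv, pow_smul_D Θ D₀ D hD hDD₀ hz, map_sub (incl Θ) v]
    obtain ⟨v', hv'⟩ := exists_pow_smul_of_ev_eq_zero θ Θ hθ hΘ h1 fun i => by
      funext j
      have h4 : (derivative Θ).eval (θ i) = ∏ k ∈ Finset.univ.erase i, (θ i - θ k) := by
        rw [hΘ]; exact derivative_prod_eval θ i
      have h5 := congrFun (ev_D₀ θ Θ hΘ D₀ hD₀ Res hRes u i) j
      have h6 := congrFun (ha i) j
      simp only [ev, Pi.smul_apply, smul_eq_mul, Pi.sub_apply, hu] at h5 h6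
      simp only [ev, Pi.sub_apply, Pi.smul_apply, smul_eq_mul, eval_sub, eval_mul, eval_natCast, h4,
        Pi.zero_apply, h5]
      have h7 : (u j).eval (θ i) = a i j := congrFun (hu i) j
      rw [h7]
      linear_combination (-(∏ k ∈ Finset.univ.erase i, (θ i - θ k))) * h6 -
        (v j).eval (θ i) * hc i
    obtain ⟨w', v'', h⟩ := ih _ v' hv'
    exact ⟨z + w', v'', by rw [map_add, add_assoc, ← h]; abel⟩

/-- The non-resonance hypothesis makes `Res - m` bijective. -/
theorem bijective_sub_natCast {K : Type*} [Field K] [CharZero K] [Algebra K R]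
    (T : (Fin d → R) →ₗ[R] (Fin d → R)) (χ : K[X])
    (hχ : T.charpoly = χ.map (algebraMap K R)) (hn : ∀ n : ℤ, n ≠ 0 → χ.eval (n : K) ≠ 0)
    (m : ℕ) (hm : 0 < m) : Function.Bijective fun x => T x - (m : R) • x := by
  have h1 : IsUnit (T.charpoly.eval (m : R)) := by
    rw [hχ, eval_map, ← map_natCast (algebraMap K R), eval₂_at_apply]
    exact (isUnit_iff_ne_zero.2 (by simpa using hn m (by omega))).map _
  have h2 : IsUnit (Matrix.scalar (Fin d) (m : R) - LinearMap.toMatrix' T).det := by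
    rw [← Matrix.eval_charpoly]
    rwa [← LinearMap.charpoly_toMatrix T (Pi.basisFun R (Fin d)),
      LinearMap.toMatrix_eq_toMatrix'] at h1
  have h3 : Function.Bijective (Matrix.toLin' (Matrix.scalar (Fin d) (m : R) - LinearMap.toMatrix' T)) := by
    rw [← Module.End.isUnit_iff]
    exact (((Matrix.isUnit_iff_isUnit_det _).2 h2).map Matrix.toLinAlgEquiv')
  have heq : (fun x => T x - (m : R) • x) = Neg.neg ∘
      (Matrix.toLin' (Matrix.scalar (Fin d) (m : R) - LinearMap.toMatrix' T)) := by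
    funext x
    simp [map_sub, Matrix.toLin'_toMatrix', Pi.smul_def]
  rw [heq]
  exact neg_involutive.bijective.comp h3

end Groth.Agent.LogDerLib
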